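import Cfsg.Agent.H165.FC.Small
import Cfsg.Agent.H169.RG.Toral
import Cfsg.Agent.H931.KC.Tor

/-!
# S3509, closing of `F₄`: elements of prime order (helper165)

`cases_F4` : `s` of prime order `ℓ ≠ r`, `f : TorForm m s`, `S = Sx f.t`: there is a maximal long root fixed by `θ` with a
decomposition in `S`, or `ℓ > 3` and `S` is small.
-/

set_option autoImplicit false
set_option linter.unusedSectionVars false

namespace Cfsg.Agent.H165.FC

open CoxeterSystem Cfsg Cfsg.Lie Cfsg.Lie.ChevalleyDatum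
open Cfsg.Agent.ChevalleyStructure Cfsg.Agent.ChevalleyStructure.Elts Cfsg.Agent.ChevalleyStructure.CoxeterGeom
  Cfsg.Agent.ChevalleyStructure.CoxeterGeomTypes Cfsg.Agent.ChevalleyStructure.NPerm
open Cfsg.Agent.Tits.Roots Cfsg.Agent.Tits.Core Cfsg.Agent.Nodes Cfsg.Agent.Nodes.Reps Cfsg.Agent.Nodes.BNOf
  Cfsg.Agent.Nodes.RGDChev Cfsg.Agent.Nodes.Bruhat Cfsg.Agent.Nodes.NormalForm
open Cfsg.Agent.KFacts.RgdField Cfsg.Agent.KFacts.RgdChevCoord
open Cfsg.Agent.BpExc Cfsg.Agent.BpExc.TorCent Cfsg.Agent.BpExc.TorChev Cfsg.Agent.BpExc.Tow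
  Cfsg.Agent.BpExc.TowChev Cfsg.Agent.BpExc.Fr Cfsg.Agent.BpExc.LangFr
open Cfsg.Agent.H129.TorusChar Cfsg.Agent.H129.WData
open Cfsg.Agent.H469.Exc Cfsg.Agent.H316.U6 Cfsg.Agent.H169.RG Cfsg.Agent.H165.WL

universe u v

theorem perm_tab : ∀ π : Equiv.Perm (Fin 4), π = 1 ∨
    (TF.any fun u => !(TF.contains ((List.finRange 4).map fun i => vf 4 u (π i)))) = true := by decide +kernel

variable {M : CoxeterMatrix (Fin 4)} {hp : IsType chevF4 4 M} {r q : ℕ} [hr : Fact r.Prime] {K₀ : Type v} [Group K₀]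

/-- the diagram automorphism is trivial -/
theorem g_refl (m : MData hp r q K₀) (v : Fin 4 → ℤ) : m.g v = v := by
  have h : m.π = 1 := by
    rcases perm_tab m.π with h | h
    · exact h
    · exfalso
      rw [List.any_eq_true] at h
      obtain ⟨u, hu, h1⟩ := h
      rw [Bool.not_eq_true', ← Bool.not_eq_true, List.contains_iff_mem] at h1
      apply h1
      have h2 := (m.fr.root (vf 4 u)).2 ((root_vf hp M.toCoxeterSystem (lenT hu)).2 hu)
      have h3 : m.g (vf 4 u) = vf 4 ((List.finRange 4).map fun i => vf 4 u (m.π i)) := by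
        funext i
        rw [m.perm]
        fin_cases i <;> rfl
      rw [h3] at h2
      exact (root_vf hp M.toCoxeterSystem (by simp)).1 h2
  funext i
  rw [m.perm, h]
  rfl

variable {m : MData hp r q K₀} {s : ↥(chevF4.group (KK r))}

theorem theta_eq (f : TorForm m s) (v : Fin 4 → ℤ) : f.θ v = rep M.toCoxeterSystem hp.isCartan f.w v := by
  rw [f.hθ, g_refl]

/-- the roots trivial on `t` -/
abbrev SX (f : TorForm m s) : Set (Fin 4 → ℤ) := Sx M.toCoxeterSystem hp.isCartan (ch hp) f.t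

theorem st_tor (f : TorForm m s) : ST hp M.toCoxeterSystem (SX f) f.θ where
  root := fun a => by rw [theta_eq]; exact isRoot_rep_iff hp f.w
  long := fun a => by rw [theta_eq]; exact lf_rep_iff hp _ f.w
  mem := f.stab
  pos := f.pos

/-- the functional of a torus element -/
structure Fun (f : TorForm m s) (ℓ : ℕ) (b : (Fin 4 → ℤ) →+ ℤ) : Prop where
  mem : ∀ a, a ∈ SX f ↔ IsRoot M.toCoxeterSystem hp.isCartan a ∧ (ℓ : ℤ) ∣ b a
  ne : ∃ i, ¬ (ℓ : ℤ) ∣ b (sr i)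
  sq : ∀ x, (ℓ : ℤ) ∣ b (f.θ x) - q * b x

theorem exists_fun (f : TorForm m s) {ℓ : ℕ} (hℓ : ℓ.Prime) (hℓr : ℓ ≠ r) (hs1 : s ≠ 1) (hsℓ : s ^ ℓ = 1) :
    ∃ b, Fun f ℓ b := by
  have hnk : (ℓ : KK r) ≠ 0 := by
    intro h
    rw [CharP.cast_eq_zero_iff (KK r) r] at h
    exact hℓr ((Nat.prime_dvd_prime_iff_eq hr.out hℓ).1 h).symm
  have : NeZero (ℓ : KK r) := ⟨hnk⟩
  obtain ⟨ζ, hζ⟩ := HasEnoughRootsOfUnity.exists_primitiveRoot (KK r) ℓ
  have hζ0 : ζ ≠ 0 := hζ.ne_zero hℓ.ne_zero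
  have htℓ := f.pow_eq_one hsℓ
  obtain ⟨b, hb⟩ := Cfsg.Agent.H931.KC.exists_exp hp hℓ.pos hζ f.mem htℓ
  have hmem : ∀ x, cX hp f.t x = 1 ↔ (ℓ : ℤ) ∣ b x := fun x => by
    rw [hb, hζ.zpow_eq_one_iff_dvd]
  refine ⟨b, fun a => ?_, ?_, fun x => ?_⟩
  · constructor
    · rintro ⟨h1, h2⟩
      exact ⟨h1, (hmem a).1 (by rw [cX_root hp M.toCoxeterSystem f.mem h1]; exact h2)⟩
    · rintro ⟨h1, h2⟩
      exact ⟨h1, by rw [← cX_root hp M.toCoxeterSystem f.mem h1]; exact (hmem a).2 h2⟩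
  · by_contra hcon
    push Not at hcon
    have h1 : f.t = 1 := cX_inj hp f.mem (one_mem _) fun i => by rw [(hmem _).2 (hcon i), cX_one]
    apply hs1
    rw [f.eq, h1, mul_one, mul_inv_cancel]
  · have h1 := cX_sigma hp M.toCoxeterSystem f.frob f.fr f.mem x
    rw [f.fix, m.hq, hb, hb, ← zpow_natCast, ← zpow_mul] at h1
    have h2 : ζ ^ (b (f.θ x) - q * b x) = 1 := by
      rw [zpow_sub₀ hζ0, h1, mul_comm (b x), div_self (zpow_ne_zero _ hζ0)]
    exact (hζ.zpow_eq_one_iff_dvd _).1 h2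

theorem Fun.sd {f : TorForm m s} {ℓ : ℕ} {b : (Fin 4 → ℤ) →+ ℤ} (h : Fun f ℓ b) : SD hp M.toCoxeterSystem (SX f) where
  root := fun a ha => ha.1
  neg := fun a ha => (h.mem _).2 ⟨ha.1.neg, by rw [map_neg]; exact (dvd_neg).2 ((h.mem a).1 ha).2⟩
  add := fun a ha c hc hr => (h.mem _).2 ⟨hr, by rw [map_add]; exact dvd_add ((h.mem a).1 ha).2 ((h.mem c).1 hc).2⟩

theorem Fun.half {f : TorForm m s} {ℓ : ℕ} {b : (Fin 4 → ℤ) →+ ℤ} (h : Fun f ℓ b) (hℓ : ℓ.Prime) (h2 : ℓ ≠ 2) :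
    ∀ a ∈ SX f, ∀ a' ∈ SX f, ∀ c, IsRoot M.toCoxeterSystem hp.isCartan c → c + c = a + a' → c ∈ SX f := by
  intro a ha a' ha' c hc e
  refine (h.mem c).2 ⟨hc, ?_⟩
  have h3 : (ℓ : ℤ) ∣ 2 * b c := by
    have : 2 * b c = b a + b a' := by rw [← map_add, ← e, map_add, two_mul]
    rw [this]
    exact dvd_add ((h.mem a).1 ha).2 ((h.mem a').1 ha').2
  have h4 : IsCoprime (ℓ : ℤ) 2 := by
    rw [Int.isCoprime_iff_gcd_eq_one]
    exact (Nat.coprime_primes hℓ Nat.prime_two).2 h2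
  exact h4.dvd_of_dvd_mul_left h3

theorem Fun.apply {f : TorForm m s} {ℓ : ℕ} {b : (Fin 4 → ℤ) →+ ℤ} (_ : Fun f ℓ b) (x : Fin 4 → ℤ) :
    b x = ∑ i, x i * b (sr i) := by
  conv_lhs => rw [IsMC.eq_sum_sr x]
  rw [map_sum]
  refine Finset.sum_congr rfl fun i _ => ?_
  rw [map_zsmul, smul_eq_mul]

/-- **The elements of prime order.** -/
theorem cases_F4 (f : TorForm m s) {ℓ : ℕ} (hℓ : ℓ.Prime) (hℓr : ℓ ≠ r) (hs1 : s ≠ 1) (hsℓ : s ^ ℓ = 1) :
    (∃ β, Top hp M.toCoxeterSystem (SX f) β ∧ f.θ β = β ∧ ∃ a ∈ SX f, β - a ∈ SX f) ∨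
    (3 < ℓ ∧ (SX f).ncard ≤ 8 ∧ (6 < (SX f).ncard → (ℓ : ℤ) ∣ (q : ℤ) ^ 2 - 1) ∧
      ((∃ β, Top hp M.toCoxeterSystem (SX f) β ∧ f.θ β = β) ∨ (SX f).ncard ≤ 6)) := by
  obtain ⟨b, hb⟩ := exists_fun f hℓ hℓr hs1 hsℓ
  have hS := hb.sd
  have hT := st_tor f
  by_cases h2 : ℓ = 2
  · left
    subst h2
    exact good_two (e := fun i => b (sr i)) hb.ne (fun x => by
      rw [hb.mem, hb.apply]; rfl) hT hS
  have hh := hb.half hℓ h2
  by_cases h1 : ∀ x ∈ SX f, ∀ y ∈ SX f, LF x → LF y → x = y ∨ x = -y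
  · right
    have h3 : ℓ ≠ 3 := by
      rintro rfl
      obtain ⟨x, y, hx, hy, hxy, hxy', dx, dy⟩ := two_long (e := fun i => b (sr i)) hb.ne
      have hx' : x ∈ SX f := (hb.mem x).2 ⟨(root_iff hp _).2 (Or.inl hx), by rw [hb.apply]; exact dx⟩
      have hy' : y ∈ SX f := (hb.mem y).2 ⟨(root_iff hp _).2 (Or.inl hy), by rw [hb.apply]; exact dy⟩
      rcases h1 x hx' y hy' hx hy with h | h
      · exact hxy h
      · exact hxy' h
    have h4 : 3 < ℓ := by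
      have := hℓ.two_le
      omega
    obtain ⟨n1, -⟩ := ncard_small hS h1
    refine ⟨h4, n1, fun h6 => ?_, ?_⟩
    · have h7 := rank_three hS hT h1 h6
      obtain ⟨i, hi⟩ := hb.ne
      obtain ⟨u, v, w, hu, hv, hw, a, c, d, e⟩ := h7 (sr i)
      have h8 : (ℓ : ℤ) ∣ b (f.θ (f.θ (sr i)) - sr i) := by
        rw [e, map_add, map_add, map_zsmul, map_zsmul, map_zsmul, smul_eq_mul, smul_eq_mul, smul_eq_mul]
        exact dvd_add (dvd_add (Dvd.dvd.mul_left ((hb.mem u).1 hu).2 a) (Dvd.dvd.mul_left ((hb.mem v).1 hv).2 c))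
          (Dvd.dvd.mul_left ((hb.mem w).1 hw).2 d)
      rw [map_sub] at h8
      have h9 := hb.sq (f.θ (sr i))
      have h10 := hb.sq (sr i)
      have h11 : (ℓ : ℤ) ∣ ((q : ℤ) ^ 2 - 1) * b (sr i) := by
        have e2 : ((q : ℤ) ^ 2 - 1) * b (sr i) = (b (f.θ (f.θ (sr i))) - b (sr i)) -
            (b (f.θ (f.θ (sr i))) - q * b (f.θ (sr i))) - q * (b (f.θ (sr i)) - q * b (sr i)) := by ring
        rw [e2]
        exact dvd_sub (dvd_sub h8 h9) (Dvd.dvd.mul_left h10 _)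
      exact ((Nat.prime_iff_prime_int.1 hℓ).dvd_or_dvd h11).resolve_right hi
    · by_cases hex : ∃ a ∈ SX f, LF a
      · left
        obtain ⟨β, hβ⟩ := exists_top hS hex
        exact ⟨β, hβ, top_unique hS hh (hβ.map hT hS) hβ⟩
      · right
        by_contra hcon
        obtain ⟨⟨β, hβ, hL, -⟩, -⟩ := (ncard_small hS h1).2 (by omega)
        exact hex ⟨β, hβ, hL⟩
  · left
    push Not at h1
    obtain ⟨x, hx, y, hy, hxL, hyL, hxy, hxy'⟩ := h1
    obtain ⟨β, hβ⟩ := exists_top hS ⟨x, hx, hxL⟩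
    refine ⟨β, hβ, top_unique hS hh (hβ.map hT hS) hβ, ?_⟩
    by_cases h3 : β = x ∨ β = -x
    · have h4 : β ≠ y ∧ β ≠ -y := by
        rcases h3 with h | h
        · rw [h]; exact ⟨hxy, hxy'⟩
        · rw [h]
          refine ⟨fun h5 => hxy' ?_, fun h5 => hxy ?_⟩
          · rw [← h5, neg_neg]
          · exact neg_injective h5
      exact dec_of_two hS hh hβ.mem hβ.long hy hyL h4.1 h4.2
    · push Not at h3
      exact dec_of_two hS hh hβ.mem hβ.long hx hxL h3.1 h3.2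

end Cfsg.Agent.H165.FC
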